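import Mathlib
import Cfsg.Prelude.Def_OddOrderLocal
import Cfsg.Prelude.Def_HallClasses
import Cfsg.Agent.Lib.NilpotentCoprime
import Cfsg.Agent.Transfer.FrobeniusFusion

/-!
Basic facts about π-subgroups, Hall π-subgroups, direct decompositions of Hall subgroups and
the property `IsDPiGroup`.
-/

set_option autoImplicit false

namespace Cfsg.Agent.H569.PiHall

open Subgroup

variable {G : Type*} [Group G]

/-- membership in a conjugate -/
theorem mem_map_conj_iff {H : Subgroup G} {g x : G} :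
    x ∈ H.map (MulAut.conj g).toMonoidHom ↔ g⁻¹ * x * g ∈ H := by
  constructor
  · rintro ⟨y, hy, rfl⟩
    have : g⁻¹ * (MulAut.conj g).toMonoidHom y * g = y := by
      simp [MulAut.conj_apply, mul_assoc]
    rw [this]; exact hy
  · intro h
    exact ⟨g⁻¹ * x * g, h, by simp [MulAut.conj_apply, mul_assoc]⟩

theorem card_map_conj (H : Subgroup G) (g : G) :
    Nat.card (H.map (MulAut.conj g).toMonoidHom : Subgroup G) = Nat.card H :=
  Subgroup.card_map_of_injective (MulAut.conj g).injective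

theorem isPiSubgroup_map_conj {π : Set ℕ} {H : Subgroup G} (h : Cfsg.IsPiSubgroup π H) (g : G) :
    Cfsg.IsPiSubgroup π (H.map (MulAut.conj g).toMonoidHom) := by
  intro p hp hd
  rw [card_map_conj] at hd
  exact h p hp hd

theorem isPiSubgroup_mono {π : Set ℕ} {H K : Subgroup G} (hHK : H ≤ K)
    (h : Cfsg.IsPiSubgroup π K) : Cfsg.IsPiSubgroup π H :=
  fun p hp hd => h p hp (hd.trans (Subgroup.card_dvd_of_le hHK))

/-- A Sylow subgroup of a subgroup of index prime to `p` is a Sylow subgroup of the group. -/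
theorem exists_sylow_le [Finite G] {p : ℕ} [Fact p.Prime] (H : Subgroup G) (h : ¬ p ∣ H.index) :
    ∃ T : Sylow p G, (T : Subgroup G) ≤ H := by
  obtain ⟨S⟩ : Nonempty (Sylow p H) := inferInstance
  have h1 : IsPGroup p ((S : Subgroup H).map H.subtype) := S.2.map _
  have h2 : ¬ p ∣ ((S : Subgroup H).map H.subtype).index := by
    rw [Subgroup.index_map_subtype]
    intro hd
    rcases (Fact.out : p.Prime).dvd_mul.mp hd with h3 | h3
    · exact S.not_dvd_index h3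
    · exact h h3
  exact ⟨h1.toSylow h2, Subgroup.map_subtype_le _⟩

/-- A Hall π-subgroup contains a conjugate of every subgroup with an elementwise embedding:
`K ≤ g H g⁻¹` for a maximal π-subgroup `K` gives equality. -/
theorem eq_map_conj_of_maximal {π : Set ℕ} {H K : Subgroup G} (hH : Cfsg.IsPiSubgroup π H)
    (hK : Maximal (Cfsg.IsPiSubgroup π) K) {g : G} (h : ∀ x ∈ K, g⁻¹ * x * g ∈ H) :
    K = H.map (MulAut.conj g).toMonoidHom := by
  have h1 : K ≤ H.map (MulAut.conj g).toMonoidHom := fun x hx => mem_map_conj_iff.mpr (h x hx)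
  exact le_antisymm h1 (hK.2 (isPiSubgroup_map_conj hH g) h1)

/-- If every π-subgroup lies in a conjugate of the π-subgroup `H` then `D_π` holds. -/
theorem isDPiGroup_of_forall {π : Set ℕ} {H : Subgroup G} (hH : Cfsg.IsPiSubgroup π H)
    (h : ∀ K : Subgroup G, Cfsg.IsPiSubgroup π K → ∃ g : G, ∀ x ∈ K, g⁻¹ * x * g ∈ H) :
    Cfsg.IsDPiGroup π G := by
  intro A B hA hB
  obtain ⟨a, ha⟩ := h A hA.1
  obtain ⟨b, hb⟩ := h B hB.1
  have h1 := eq_map_conj_of_maximal hH hA ha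
  have h2 := eq_map_conj_of_maximal hH hB hb
  refine ⟨b * a⁻¹, ?_⟩
  ext x
  rw [mem_map_conj_iff, h1, mem_map_conj_iff, h2, mem_map_conj_iff]
  have : a⁻¹ * ((b * a⁻¹)⁻¹ * x * (b * a⁻¹)) * a = b⁻¹ * x * b := by group
  rw [this]

/-- A Hall π-subgroup is a maximal π-subgroup. -/
theorem maximal_of_isPiHall [Finite G] {π : Set ℕ} {H : Subgroup G} (hH : Cfsg.IsPiHall π H) :
    Maximal (Cfsg.IsPiSubgroup π) H := by
  refine ⟨hH.1, fun X hX hHX => ?_⟩
  have h1 : H.relIndex X = 1 := by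
    by_contra hne
    obtain ⟨p, hp, hpd⟩ := Nat.exists_prime_and_dvd hne
    have h2 : p ∣ Nat.card X := hpd.trans (Subgroup.relIndex_dvd_card H X)
    have h3 : p ∣ H.index := hpd.trans (Subgroup.relIndex_dvd_index_of_le hHX)
    exact hH.2 p hp (hX p hp h2) h3
  exact Subgroup.relIndex_eq_one.mp h1

/-- In a `D_π`-group, every π-subgroup lies in a conjugate of a given maximal π-subgroup. -/
theorem exists_conj_of_isDPiGroup [Finite G] {π : Set ℕ} (hD : Cfsg.IsDPiGroup π G)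
    {H : Subgroup G} (hH : Maximal (Cfsg.IsPiSubgroup π) H) {K : Subgroup G}
    (hK : Cfsg.IsPiSubgroup π K) : ∃ g : G, ∀ x ∈ K, g⁻¹ * x * g ∈ H := by
  obtain ⟨M, hKM, hM⟩ := Finite.exists_le_maximal hK
  obtain ⟨g, hg⟩ := hD H M hH hM
  refine ⟨g, fun x hx => ?_⟩
  have h1 := hKM hx
  rw [hg] at h1
  exact mem_map_conj_iff.mp h1

section Decomp

variable {σ τ : Set ℕ} {Hs Ht H : Subgroup G}

theorem exists_mul_of_mem (hjoin : Hs ⊔ Ht = H)
    (hcomm : ∀ a ∈ Hs, ∀ b ∈ Ht, a * b = b * a) {x : G} (hx : x ∈ H) :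
    ∃ s ∈ Hs, ∃ t ∈ Ht, s * t = x := by
  let P : Subgroup G :=
    { carrier := {x | ∃ s ∈ Hs, ∃ t ∈ Ht, s * t = x}
      one_mem' := ⟨1, one_mem _, 1, one_mem _, one_mul 1⟩
      mul_mem' := by
        rintro _ _ ⟨s, hs, t, ht, rfl⟩ ⟨s', hs', t', ht', rfl⟩
        refine ⟨s * s', mul_mem hs hs', t * t', mul_mem ht ht', ?_⟩
        calc s * s' * (t * t') = s * (s' * t) * t' := by group
          _ = s * (t * s') * t' := by rw [hcomm s' hs' t ht]
          _ = s * t * (s' * t') := by group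
      inv_mem' := by
        rintro _ ⟨s, hs, t, ht, rfl⟩
        refine ⟨s⁻¹, inv_mem hs, t⁻¹, inv_mem ht, ?_⟩
        rw [hcomm _ (inv_mem hs) _ (inv_mem ht), mul_inv_rev] }
  have h1 : Hs ⊔ Ht ≤ P :=
    sup_le (fun s hs => ⟨s, hs, 1, one_mem _, mul_one s⟩)
      (fun t ht => ⟨1, one_mem _, t, ht, one_mul t⟩)
  rw [hjoin] at h1
  exact h1 hx

theorem coprime_card_of_disjoint (hs : Cfsg.IsPiSubgroup σ Hs) (ht : Cfsg.IsPiSubgroup τ Ht)
    (hd : Disjoint σ τ) : (Nat.card Hs).Coprime (Nat.card Ht) := by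
  rw [Nat.coprime_iff_gcd_eq_one]
  by_contra hne
  obtain ⟨p, hp, hpd⟩ := Nat.exists_prime_and_dvd hne
  exact Set.disjoint_left.mp hd (hs p hp (hpd.trans (Nat.gcd_dvd_left _ _)))
    (ht p hp (hpd.trans (Nat.gcd_dvd_right _ _)))

/-- An element of `H = Hs × Ht` of order prime to `|Ht|` lies in `Hs`. -/
theorem mem_left_of_coprime (hjoin : Hs ⊔ Ht = H)
    (hcomm : ∀ a ∈ Hs, ∀ b ∈ Ht, a * b = b * a) {x : G} (hx : x ∈ H)
    (hc : (orderOf x).Coprime (Nat.card Ht)) : x ∈ Hs := by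
  obtain ⟨s, hs, t, ht, rfl⟩ := exists_mul_of_mem hjoin hcomm hx
  have h1 : (s * t) ^ Nat.card Ht = s ^ Nat.card Ht := by
    rw [(show Commute s t from hcomm s hs t ht).mul_pow]
    have : t ^ Nat.card Ht = 1 := by
      have := pow_card_eq_one' (x := (⟨t, ht⟩ : Ht))
      exact congrArg Subtype.val this
    rw [this, mul_one]
  have h2 : (s * t) ∈ Subgroup.zpowers ((s * t) ^ Nat.card Ht) := by
    obtain ⟨m, hm⟩ := exists_pow_eq_self_of_coprime hc.symm
    rw [Subgroup.mem_zpowers_iff]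
    exact ⟨m, by rw [zpow_natCast]; exact hm⟩
  rw [h1] at h2
  exact (Subgroup.zpowers_le.mpr (pow_mem hs _)) h2

/-- An element of `H = Hs × Ht` of order prime to `|Hs|` lies in `Ht`. -/
theorem mem_right_of_coprime (hjoin : Hs ⊔ Ht = H)
    (hcomm : ∀ a ∈ Hs, ∀ b ∈ Ht, a * b = b * a) {x : G} (hx : x ∈ H)
    (hc : (orderOf x).Coprime (Nat.card Hs)) : x ∈ Ht :=
  mem_left_of_coprime (Hs := Ht) (Ht := Hs) (by rw [sup_comm]; exact hjoin)
    (fun a ha b hb => (hcomm b hb a ha).symm) hx hc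

variable [Finite G]

/-- `Ht` is a Hall τ-subgroup of `G` when `H = Hs × Ht` is a Hall π-subgroup. -/
theorem isPiHall_right {π : Set ℕ} (hπ : π = σ ∪ τ) (hd : Disjoint σ τ)
    (hH : Cfsg.IsPiHall π H) (hs : Cfsg.IsPiSubgroup σ Hs) (ht : Cfsg.IsPiSubgroup τ Ht)
    (hjoin : Hs ⊔ Ht = H) (hcomm : ∀ a ∈ Hs, ∀ b ∈ Ht, a * b = b * a) :
    Cfsg.IsPiHall τ Ht := by
  refine ⟨ht, fun p hp hpt hpd => ?_⟩
  have hle : Ht ≤ H := hjoin ▸ le_sup_right
  rw [← Subgroup.relIndex_mul_index hle] at hpd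
  rcases hp.dvd_mul.mp hpd with h1 | h1
  · -- `[H : Ht]` divides a power of `|Hs|`
    have hnt : ¬ p ∣ Nat.card Hs := fun h2 => Set.disjoint_left.mp hd (hs p hp h2) hpt
    have : Fact p.Prime := ⟨hp⟩
    -- a Sylow `p`-subgroup of `H` lies in `Ht`
    obtain ⟨S⟩ : Nonempty (Sylow p H) := inferInstance
    have h2 : (S : Subgroup H) ≤ Ht.subgroupOf H := by
      intro x hx
      rw [Subgroup.mem_subgroupOf]
      refine mem_right_of_coprime hjoin hcomm x.2 ?_
      obtain ⟨k, hk⟩ := IsPGroup.iff_orderOf.mp S.2 ⟨x, hx⟩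
      have h3 : orderOf (x : G) = p ^ k := by
        rw [← hk, ← Subgroup.orderOf_coe, Subgroup.orderOf_coe]
      rw [h3]
      exact (Nat.Coprime.pow_left k ((Nat.Prime.coprime_iff_not_dvd hp).mpr hnt))
    have h3 : ¬ p ∣ (Ht.subgroupOf H).index := by
      intro h4
      exact S.not_dvd_index (h4.trans (Subgroup.index_dvd_of_le h2))
    exact h3 h1
  · exact hH.2 p hp (hπ ▸ Set.mem_union_right σ hpt) h1

theorem isPiHall_left {π : Set ℕ} (hπ : π = σ ∪ τ) (hd : Disjoint σ τ)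
    (hH : Cfsg.IsPiHall π H) (hs : Cfsg.IsPiSubgroup σ Hs) (ht : Cfsg.IsPiSubgroup τ Ht)
    (hjoin : Hs ⊔ Ht = H) (hcomm : ∀ a ∈ Hs, ∀ b ∈ Ht, a * b = b * a) :
    Cfsg.IsPiHall σ Hs :=
  isPiHall_right (σ := τ) (τ := σ) (Hs := Ht) (Ht := Hs) (by rw [hπ, Set.union_comm]) hd.symm hH
    ht hs (by rw [sup_comm]; exact hjoin) (fun a ha b hb => (hcomm b hb a ha).symm)

end Decomp

end Cfsg.Agent.H569.PiHall
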