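import Cfsg.Agent.H569.KleinSylow
import Cfsg.Agent.CpAut.TwoCov
import Cfsg.Agent.S0215

/-!
# Isolated involutions and a sign argument (helper569)

* `comm_mem_core` : `s` an isolated involution of `M`: `[s, g] ∈ O(M)` (Glauberman); `core_sup` : `M = O(M) C(s)`;
* `mem_core_of_inverted` : elements of odd order inverted by `s` are in `O(M)`;
* `false_of_sign` : `Q = N ∩ K` is a Sylow `p`-subgroup of the normal subgroup `N` of odd order, `Z(Q) = ⟨X, e⟩`, `X ∈ Z(M)`,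
  `s ∈ K` inverts `e`: then `s` is not a square.
-/

set_option autoImplicit false

namespace Cfsg.Agent.H569.KleinIso

open Subgroup Cfsg

section Iso

variable {M : Type*} [Group M] [Finite M]

/-- an isolated involution is central in a Sylow 2-subgroup -/
theorem center_of_iso {z : M} (hiso : ∀ g : M, g * z * g⁻¹ * z = z * (g * z * g⁻¹) → g * z * g⁻¹ = z)
    (P : Sylow 2 M) (hzP : z ∈ P) : ∀ g ∈ P, g * z = z * g := by
  have : Fact (Nat.Prime 2) := ⟨Nat.prime_two⟩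
  let D : Subgroup ↥(P : Subgroup M) := centralizer ({(⟨z, hzP⟩ : ↥(P : Subgroup M))} : Set ↥(P : Subgroup M))
  have hN : normalizer (D : Set ↥(P : Subgroup M)) ≤ D := by
    intro g hg
    have h1 : g * ⟨z, hzP⟩ * g⁻¹ ∈ D := (mem_normalizer_iff.1 hg _).1 (mem_centralizer_singleton_iff.2 rfl)
    have h2 := hiso (g : M) (congrArg Subtype.val (mem_centralizer_singleton_iff.1 h1))
    refine mem_centralizer_singleton_iff.2 (Subtype.ext ?_)
    change (g : M) * z = z * g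
    rwa [mul_inv_eq_iff_eq_mul] at h2
  have hnil : Group.IsNilpotent ↥(P : Subgroup M) := P.isPGroup'.isNilpotent
  have hD : D = ⊤ := by
    by_contra hne
    have h1 := Group.normalizerCondition_of_isNilpotent (G := ↥(P : Subgroup M)) D (lt_top_iff_ne_top.2 hne)
    exact absurd hN (not_le_of_gt h1)
  intro g hg
  have h1 : (⟨g, hg⟩ : ↥(P : Subgroup M)) ∈ D := by rw [hD]; exact mem_top _
  exact congrArg Subtype.val (mem_centralizer_singleton_iff.1 h1)

/-- **Glauberman** for an isolated involution. -/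
theorem comm_mem_core {z : M} (hz : orderOf z = 2)
    (hiso : ∀ g : M, g * z * g⁻¹ * z = z * (g * z * g⁻¹) → g * z * g⁻¹ = z) (g : M) :
    z * g * z⁻¹ * g⁻¹ ∈ pPrimeCore 2 M := by
  have : Fact (Nat.Prime 2) := ⟨Nat.prime_two⟩
  have hzp : IsPGroup 2 ↥(zpowers z) := IsPGroup.of_card (n := 1) (by rw [Nat.card_zpowers, hz, pow_one])
  obtain ⟨P, hP⟩ := hzp.exists_le_sylow
  have hzP : z ∈ P := hP (mem_zpowers z)
  have hcen := center_of_iso hiso P hzP
  obtain ⟨N, hN, hodd, hc⟩ := Cfsg.Agent.S0215.result P z hz hzP (fun g hg => hiso g (hcen _ hg))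
  exact Lib.Cores.le_pPrimeCore hN (Nat.coprime_two_right.2 hodd) (hc g)

theorem odd_core : Odd (Nat.card ↥(pPrimeCore 2 M)) :=
  Nat.coprime_two_right.1 (Lib.Cores.pPrimeCore_coprime (G := M) 2)

theorem core_sup {z : M} (hz : orderOf z = 2) (hc : ∀ g : M, z * g * z⁻¹ * g⁻¹ ∈ pPrimeCore 2 M) :
    pPrimeCore 2 M ⊔ centralizer ({z} : Set M) = ⊤ := by
  rw [eq_top_iff]
  refine CpAut.TwoCov.sup_eq_top hz (pPrimeCore 2 M) odd_core (H := ⊤) (fun g _ => ?_)
  have h2 := inv_mem (hc g)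
  have h3 : (z * g * z⁻¹ * g⁻¹)⁻¹ = g * z * g⁻¹ * z⁻¹ := by group
  rwa [h3] at h2

/-- an element of order 3 inverted by `z` -/
theorem mem_core_of_inverted {z r : M} (hc : ∀ g : M, z * g * z⁻¹ * g⁻¹ ∈ pPrimeCore 2 M)
    (hr : Odd (orderOf r)) (hzr : z * r * z⁻¹ = r⁻¹) : r ∈ pPrimeCore 2 M := by
  have h1 := hc r
  rw [hzr] at h1
  obtain ⟨k, hk⟩ := hr
  have h2 : r = (r⁻¹ * r⁻¹) ^ (orderOf r - (k + 1) + (orderOf r) - (orderOf r) + 0) * 1 := by
    have h3 : (r⁻¹ * r⁻¹) ^ k = r := by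
      rw [← pow_two, ← pow_mul, inv_pow, inv_eq_iff_mul_eq_one, ← pow_succ, ← hk, pow_orderOf_eq_one]
    have h4 : orderOf r - (k + 1) + (orderOf r) - (orderOf r) + 0 = k := by omega
    rw [h4, h3, mul_one]
  rw [h2, mul_one]
  exact pow_mem h1 _

end Iso

section Sign

variable {M : Type*} [Group M] [Finite M]

/-- `N ∩ K` is a Sylow subgroup of the normal subgroup `N` -/
theorem exists_sylow_inf {p : ℕ} [hp : Fact p.Prime] (N K : Subgroup M) [N.Normal] (hK : ¬ p ∣ K.index)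
    (hQ : IsPGroup p ↥(N ⊓ K)) : ∃ P : Sylow p N, (P : Subgroup N).map N.subtype = N ⊓ K := by
  have h1 : IsPGroup p ↥(K.subgroupOf N) := by
    have h2 : (K.subgroupOf N).map N.subtype = N ⊓ K := by rw [subgroupOf_map_subtype, inf_comm]
    have h3 := hQ
    rw [← h2] at h3
    exact h3.of_equiv ((K.subgroupOf N).equivMapOfInjective _ N.subtype_injective).symm
  obtain ⟨P, hP⟩ := h1.exists_le_sylow
  refine ⟨P, ?_⟩
  have h2 : (P : Subgroup N) = K.subgroupOf N := by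
    refine (Subgroup.eq_of_le_of_card_ge hP ?_).symm
    have h3 : ¬ p ∣ (K.subgroupOf N).index := by
      intro h4
      apply hK
      have h5 : (K.subgroupOf N).index ∣ K.index := by
        change K.relIndex N ∣ K.index
        have h6 : K.relIndex N = K.relIndex (N ⊔ K) := by
          have a1 := relIndex_mul_relIndex ⊥ (K ⊓ N) N bot_le inf_le_right
          have a2 := relIndex_mul_relIndex ⊥ (N ⊓ K) K bot_le inf_le_right
          have a3 := relIndex_mul_relIndex ⊥ N (N ⊔ K) bot_le le_sup_left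
          have a4 := relIndex_mul_relIndex ⊥ K (N ⊔ K) bot_le le_sup_right
          rw [relIndex_bot_left, relIndex_bot_left] at a1 a2 a3 a4
          have a5 : N.relIndex (N ⊔ K) = N.relIndex K := (relIndex_sup_left K N)
          rw [inf_relIndex_right] at a1 a2
          rw [inf_comm] at a1
          rw [a5] at a3
          have hc : 0 < Nat.card ↥(N ⊓ K) := Nat.card_pos
          have hr : 0 < N.relIndex K := Nat.pos_of_ne_zero (fun h0 => by
            rw [h0, mul_zero] at a2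
            exact Nat.card_pos.ne a2)
          have a6 : Nat.card ↥(N ⊓ K) * N.relIndex K * K.relIndex (N ⊔ K) =
              Nat.card ↥(N ⊓ K) * N.relIndex K * K.relIndex N := by
            have a7 : Nat.card ↥(N ⊓ K) * N.relIndex K * K.relIndex N =
                Nat.card ↥(N ⊓ K) * K.relIndex N * N.relIndex K := by ring
            rw [a7, a1, a2, a3, a4]
          exact (Nat.eq_of_mul_eq_mul_left (Nat.mul_pos hc hr) a6).symm
        rw [h6]
        exact relIndex_dvd_index_of_le le_sup_right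
      exact h4.trans h5
    obtain ⟨n, hn⟩ := IsPGroup.iff_card.1 P.2
    have h4 := Subgroup.card_subgroup_dvd_card (P : Subgroup N)
    rw [← (K.subgroupOf N).card_mul_index] at h4
    change Nat.card ↥(P : Subgroup N) ≤ _
    rw [hn] at h4 ⊢
    exact Nat.le_of_dvd Nat.card_pos
      ((Nat.Coprime.pow_left n ((Nat.Prime.coprime_iff_not_dvd hp.out).2 h3)).dvd_of_dvd_mul_right h4)
  rw [h2, subgroupOf_map_subtype, inf_comm]

/-- **The sign argument.** -/
theorem false_of_sign {p : ℕ} [hp : Fact p.Prime] (N K : Subgroup M) [hNn : N.Normal] (hN : Odd (Nat.card N))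
    (hK : ¬ p ∣ K.index) (hQ : IsPGroup p ↥(N ⊓ K)) {X e s g : M} (hX : ∀ m : M, m * X = X * m)
    (heN : e ∈ N) (heK : e ∈ K) (heQ : ∀ q ∈ N ⊓ K, q * e = e * q) (heX : e * e ∉ zpowers X)
    (hcen : ∀ c ∈ N ⊓ K, (∀ q ∈ N ⊓ K, q * c = c * q) → (∃ k : ℤ, c = X ^ k) ∨ (∃ k : ℤ, c = X ^ k * e) ∨
      ∃ k : ℤ, c = X ^ k * e⁻¹) (hsK : s ∈ K) (hse : s * e * s⁻¹ = e⁻¹) (hg : g * g = s) : False := by
  obtain ⟨P, hP⟩ := exists_sylow_inf N K hK hQ
  -- the normalizer
  have hF := Sylow.normalizer_sup_eq_top (N := N) P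
  rw [hP] at hF
  have hcent : ∀ (j : ℤ) (m : M), m * X ^ j * m⁻¹ = X ^ j := by
    intro j m
    rw [mul_inv_eq_iff_eq_mul]
    exact ((show Commute m X from hX m).zpow_right j).eq
  have heX' : ∀ j k : ℤ, X ^ j * e ≠ X ^ k * e⁻¹ := by
    intro j k h
    apply heX
    rw [mem_zpowers_iff]
    refine ⟨k - j, ?_⟩
    have h1 : e = (X ^ j)⁻¹ * (X ^ k * e⁻¹) := by rw [← h, inv_mul_cancel_left]
    have h2 : e * e = (X ^ j)⁻¹ * X ^ k := by
      nth_rw 1 [h1]
      group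
    rw [h2, ← zpow_neg, ← zpow_add, sub_eq_neg_add]
  -- the two cases
  have hcase : ∀ m ∈ normalizer ((N ⊓ K : Subgroup M) : Set M), (∃ k : ℤ, m * e * m⁻¹ = X ^ k * e) ∨
      ∃ k : ℤ, m * e * m⁻¹ = X ^ k * e⁻¹ := by
    intro m hm
    have h1 : m * e * m⁻¹ ∈ N ⊓ K := (mem_normalizer_iff.1 hm e).1 ⟨heN, heK⟩
    rcases hcen _ h1 (fun q hq => by
      have h2 : m⁻¹ * q * m ∈ N ⊓ K := by
        have := (mem_normalizer_iff.1 (inv_mem hm) q).1 hq
        rwa [inv_inv] at this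
      have h3 := heQ _ h2
      calc q * (m * e * m⁻¹) = m * ((m⁻¹ * q * m) * e) * m⁻¹ := by group
        _ = m * (e * (m⁻¹ * q * m)) * m⁻¹ := by rw [h3]
        _ = _ := by group) with ⟨k, hk⟩ | ⟨k, hk⟩ | ⟨k, hk⟩
    · exfalso
      apply heX
      have h2 : e = X ^ k := by
        have h4 : e = m⁻¹ * (m * e * m⁻¹) * m := by group
        rw [h4, hk]
        have h5 := hcent k m⁻¹
        rwa [inv_inv] at h5
      rw [h2]
      exact mul_mem (zpow_mem (mem_zpowers X) k) (zpow_mem (mem_zpowers X) k)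
    · exact Or.inl ⟨k, hk⟩
    · exact Or.inr ⟨k, hk⟩
  -- composition rules
  have hinv : ∀ {m : M} {k : ℤ}, m * e * m⁻¹ = X ^ k * e → m * e⁻¹ * m⁻¹ = X ^ (-k) * e⁻¹ := by
    intro m k h
    have h1 : m * e⁻¹ * m⁻¹ = (m * e * m⁻¹)⁻¹ := by group
    have h2 : e⁻¹ * (X ^ k)⁻¹ = (X ^ k)⁻¹ * e⁻¹ := by
      have := ((show Commute e X from hX e).zpow_right k).eq
      rw [← mul_inv_rev, ← mul_inv_rev, this]
    rw [h1, h, mul_inv_rev, h2, zpow_neg]
  have hinv' : ∀ {m : M} {k : ℤ}, m * e * m⁻¹ = X ^ k * e⁻¹ → m * e⁻¹ * m⁻¹ = X ^ (-k) * e := by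
    intro m k h
    have h1 : m * e⁻¹ * m⁻¹ = (m * e * m⁻¹)⁻¹ := by group
    have h2 : e * (X ^ k)⁻¹ = (X ^ k)⁻¹ * e := by
      have := ((show Commute e X from hX e).zpow_right (-k)).eq
      rwa [zpow_neg] at this
    rw [h1, h, mul_inv_rev, inv_inv, h2, zpow_neg]
  have hmul : ∀ {m n : M} {j : ℤ} {a b : M}, n * e * n⁻¹ = X ^ j * a → m * a * m⁻¹ = b →
      (m * n) * e * (m * n)⁻¹ = X ^ j * b := by
    intro m n j a b h1 h2
    calc (m * n) * e * (m * n)⁻¹ = m * (n * e * n⁻¹) * m⁻¹ := by group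
      _ = (m * X ^ j * m⁻¹) * (m * a * m⁻¹) := by rw [h1]; generalize X ^ j = y; group
      _ = _ := by rw [hcent, h2]
  -- elements of odd order
  have hodd : ∀ {m : M} {k : ℤ}, m * e * m⁻¹ = X ^ k * e⁻¹ → ∀ n : ℕ, ∃ j : ℤ,
      m ^ (2 * n + 1) * e * (m ^ (2 * n + 1))⁻¹ = X ^ j * e⁻¹ := by
    intro m k h n
    induction n with
    | zero => exact ⟨k, by simpa using h⟩
    | succ n ih =>
      obtain ⟨j, hj⟩ := ih
      have h1 := hmul hj (hinv' h)
      rw [← mul_assoc, ← zpow_add] at h1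
      have h2 := hmul h1 h
      refine ⟨j + -k + k, ?_⟩
      have h3 : m ^ (2 * (n + 1) + 1) = m * (m * m ^ (2 * n + 1)) := by
        rw [← pow_succ', ← pow_succ']
        congr 1
      rw [h3, h2, zpow_add (X) (j + -k) k, mul_assoc]
  -- the square root
  obtain ⟨n, hn, m, hm, hnm⟩ := mem_sup_of_normal_left.1 (show g ∈ N ⊔ normalizer ((N ⊓ K : Subgroup M) : Set M) by
    rw [sup_comm, hF]; exact mem_top g)
  have hsn : s ∈ normalizer ((N ⊓ K : Subgroup M) : Set M) := by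
    have hle : ∀ s ∈ K, ∀ y ∈ N ⊓ K, s * y * s⁻¹ ∈ N ⊓ K := fun s hs y hy =>
      ⟨hNn.conj_mem _ hy.1 s, K.mul_mem (K.mul_mem hs hy.2) (K.inv_mem hs)⟩
    rw [mem_normalizer_iff]
    intro y
    refine ⟨hle s hsK y, fun hy => ?_⟩
    have := hle s⁻¹ (inv_mem hsK) _ hy
    rwa [show s⁻¹ * (s * y * s⁻¹) * s⁻¹⁻¹ = y by group] at this
  -- `m m = r s` with `r ∈ N`
  obtain ⟨r, hr⟩ : ∃ r, r = m * m * s⁻¹ := ⟨_, rfl⟩
  have hrn : r ∈ normalizer ((N ⊓ K : Subgroup M) : Set M) := by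
    rw [hr]; exact mul_mem (mul_mem hm hm) (inv_mem hsn)
  have hrN : r ∈ N := by
    have h1 : QuotientGroup.mk' N (m * m * s⁻¹) = 1 := by
      have h2 : QuotientGroup.mk' N n = 1 := (QuotientGroup.eq_one_iff n).2 hn
      have h3 : QuotientGroup.mk' N g = QuotientGroup.mk' N m := by rw [← hnm, map_mul, h2, one_mul]
      rw [map_mul, map_mul, ← h3, ← map_mul, hg, ← map_mul, mul_inv_cancel, map_one]
    rw [hr]
    exact (QuotientGroup.eq_one_iff _).1 h1
  have hr1 : ∃ k : ℤ, r * e * r⁻¹ = X ^ k * e := by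
    rcases hcase r hrn with h | ⟨k, hk⟩
    · exact h
    · exfalso
      have h1 : Odd (orderOf r) := by
        have h2 : orderOf (⟨r, hrN⟩ : N) ∣ Nat.card N := orderOf_dvd_natCard _
        rw [← Subgroup.orderOf_coe] at h2
        exact Odd.of_dvd_nat hN h2
      obtain ⟨t, ht⟩ := h1
      obtain ⟨j, hj⟩ := hodd hk t
      rw [← ht, pow_orderOf_eq_one, one_mul, inv_one, mul_one] at hj
      exact heX' 0 j (by rw [zpow_zero, one_mul]; exact hj)
  have hmm : ∃ k : ℤ, (m * m) * e * (m * m)⁻¹ = X ^ k * e := by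
    rcases hcase m hm with ⟨k, hk⟩ | ⟨k, hk⟩
    · exact ⟨k + k, by rw [hmul hk hk, ← mul_assoc, ← zpow_add]⟩
    · exact ⟨k + -k, by rw [hmul hk (hinv' hk), ← mul_assoc, ← zpow_add]⟩
  obtain ⟨k, hk⟩ := hmm
  obtain ⟨j, hj⟩ := hr1
  have h5 : (m * m) * e * (m * m)⁻¹ = X ^ (0 : ℤ) * (X ^ (-j) * e⁻¹) := by
    have h6 : m * m = r * s := by rw [hr]; group
    rw [h6]
    exact hmul (by rw [hse, zpow_zero, one_mul]) (hinv hj)
  rw [zpow_zero, one_mul] at h5
  exact heX' k (-j) (hk.symm.trans h5)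

end Sign

end Cfsg.Agent.H569.KleinIso
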