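import Mathlib
import Cfsg.Prelude.Def_EvenType
import Cfsg.Agent.EvenType.StrongP
import Cfsg.Agent.PLocal.CoprimeLift

/-!
Strongly `p`-embedded subgroups: overgroups, intersections with subgroups, quotients by normal
`p'`-subgroups.
-/

set_option autoImplicit false

namespace Cfsg.Agent.H569.Strong

open Cfsg Subgroup Cfsg.Agent.EvenType.StrongP

variable {G : Type*} [Group G] [Finite G] {p : ℕ} [hp : Fact p.Prime]

/-- A proper overgroup of a strongly `p`-embedded subgroup is strongly `p`-embedded. -/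
theorem mono {X Y : Subgroup G} (hX : IsStronglyPEmbedded p X) (hXY : X ≤ Y) (hY : Y ≠ ⊤) :
    IsStronglyPEmbedded p Y := by
  obtain ⟨h1, _, P, hP⟩ := hX
  exact ⟨h1, hY, P, hP.trans hXY⟩

/-- `H ∩ X` is strongly `p`-embedded in `H` for `X` strongly `p`-embedded, `H ≰ X` and
`p ∣ |H ∩ X|`. -/
theorem inf_subgroupOf {X : Subgroup G} (hX : IsStronglyPEmbedded p X) {H : Subgroup G}
    (hH : ¬ H ≤ X) (hpH : p ∣ Nat.card ↥(H ⊓ X)) :
    IsStronglyPEmbedded p ((H ⊓ X).subgroupOf H) := by
  have hN := normIn hX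
  have hcard : Nat.card ((H ⊓ X).subgroupOf H) = Nat.card ↥(H ⊓ X) :=
    Nat.card_congr (Subgroup.subgroupOfEquivOfLe inf_le_left).toEquiv
  apply of_normIn
  · rw [hcard]; exact hpH
  · intro h
    rw [subgroupOf_eq_top] at h
    exact hH (h.trans inf_le_right)
  · intro Q hQ hQX hQ1 y hy
    have h1 : IsPGroup p ↥(Q.map H.subtype) := hQ.map _
    have h2 : Q.map H.subtype ≤ X := by
      rintro _ ⟨q, hq, rfl⟩
      exact (mem_subgroupOf.mp (hQX hq)).2
    have h3 : Q.map H.subtype ≠ ⊥ := by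
      intro h0
      rw [Subgroup.map_eq_bot_iff_of_injective _ H.subtype_injective] at h0
      exact hQ1 h0
    have h4 : (y : G) ∈ normalizer ((Q.map H.subtype : Subgroup G) : Set G) :=
      Subgroup.le_normalizer_map (H := Q) H.subtype ⟨y, hy, rfl⟩
    rw [mem_subgroupOf]
    exact ⟨y.2, hN _ h1 h2 h3 h4⟩

/-- The image of a strongly `p`-embedded subgroup modulo a normal `p'`-subgroup. -/
theorem map_mk {X N : Subgroup G} [N.Normal] (hX : IsStronglyPEmbedded p X)
    (hN : (Nat.card N).Coprime p) (hXN : X ⊔ N ≠ ⊤) :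
    IsStronglyPEmbedded p (X.map (QuotientGroup.mk' N)) := by
  obtain ⟨h1, _, P, hP⟩ := hX
  refine ⟨?_, ?_, ?_⟩
  · have h2 := N.card_eq_card_quotient_mul_card_subgroup
    rw [h2] at h1
    exact (Nat.Coprime.dvd_of_dvd_mul_right hN.symm h1)
  · intro h
    apply hXN
    have h2 := Subgroup.comap_map_eq (QuotientGroup.mk' N) X
    rw [h, comap_top, QuotientGroup.ker_mk'] at h2
    exact h2.symm
  · refine ⟨P.mapSurjective (QuotientGroup.mk'_surjective N), ?_⟩
    apply core_le (P.mapSurjective (QuotientGroup.mk'_surjective N)).isPGroup'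
    intro Q hQ hQ1
    have hQ' : Q ≤ (P : Subgroup G).map (QuotientGroup.mk' N) := hQ
    obtain ⟨R, hR⟩ : ∃ R : Subgroup G, R = Q.comap (QuotientGroup.mk' N) ⊓ (P : Subgroup G) := ⟨_, rfl⟩
    have hRP : R ≤ (P : Subgroup G) := hR ▸ inf_le_right
    have hmap : R.map (QuotientGroup.mk' N) = Q := by
      apply le_antisymm
      · rintro _ ⟨x, hx, rfl⟩
        rw [hR] at hx
        exact hx.1
      · intro x hx
        obtain ⟨y, hy, rfl⟩ := hQ' hx
        exact ⟨y, by rw [hR]; exact ⟨hx, hy⟩, rfl⟩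
    have hR1 : R ≠ ⊥ := by
      intro h0
      rw [h0, Subgroup.map_bot] at hmap
      exact hQ1 hmap.symm
    rw [← hmap, ← Cfsg.Agent.PLocal.CoprimeLift.map_normalizer_mk N R hN (P.isPGroup'.to_le hRP)]
    exact Subgroup.map_mono ((normalizer_le_core P.isPGroup' hRP hR1).trans hP)

/-- A strongly `p`-embedded subgroup contains a Sylow subgroup and its normalizer. -/
theorem exists_sylow {X : Subgroup G} (hX : IsStronglyPEmbedded p X) :
    ∃ P : Sylow p G, (P : Subgroup G) ≤ X ∧ (P : Subgroup G) ≠ ⊥ ∧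
      normalizer ((P : Subgroup G) : Set G) ≤ X := by
  obtain ⟨h1, h2, P, hP⟩ := hX
  exact ⟨P, sylow_le h1 hP, sylow_ne_bot h1 P,
    (normalizer_le_core P.isPGroup' le_rfl (sylow_ne_bot h1 P)).trans hP⟩

/-- A normal subgroup of order divisible by `p` is not contained in a strongly `p`-embedded subgroup. -/
theorem not_normal_le {X N : Subgroup G} [N.Normal] (hX : IsStronglyPEmbedded p X)
    (hN : p ∣ Nat.card N) : ¬ N ≤ X := by
  intro hle
  obtain ⟨S⟩ : Nonempty (Sylow p N) := inferInstance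
  have hfr := Sylow.normalizer_sup_eq_top S
  have h1 : IsPGroup p ↥((S : Subgroup N).map N.subtype) := S.isPGroup'.map _
  have h3 : (S : Subgroup N).map N.subtype ≠ ⊥ := by
    intro h0
    rw [Subgroup.map_eq_bot_iff_of_injective _ N.subtype_injective] at h0
    exact sylow_ne_bot hN S h0
  have h2 := normIn hX _ h1 ((map_subtype_le _).trans hle) h3
  have h4 : (⊤ : Subgroup G) ≤ X := by
    rw [← hfr]
    exact sup_le h2 hle
  exact hX.2.1 (top_le_iff.mp h4)

end Cfsg.Agent.H569.Strong
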