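import Cfsg.Agent.H569.KleinIso
import Cfsg.Agent.Lib.KleinOrder

/-!
# The `p`-part of a group with an isolated involution (helper569)

`dvd_card` : `M = O(M) C(z)`, `C(z) = T D` with `T` extraspecial-like 2-group, `D` of order `p²` containing the central
subgroup `⟨x⟩` of order `p`, `s ∈ T` a noncentral involution with `p³ ∣ |C(s)|`, `|C(s z)|`: then `p⁶ ∣ |M|`.
-/

set_option autoImplicit false

namespace Cfsg.Agent.H569.KleinIndex

open Subgroup Cfsg

variable {M : Type*} [Group M] [Finite M]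

/-- the hypotheses -/
structure Dat (p : ℕ) (N T D X : Subgroup M) (z s : M) : Prop where
  nor : N.Normal
  odd : Odd (Nat.card N)
  oddD : Odd (Nat.card D)
  two : IsPGroup 2 T
  hz : z * z = 1
  hz1 : z ≠ 1
  zT : z ∈ T
  TC : ∀ t ∈ T, t * z = z * t
  DC : ∀ d ∈ D, d * z = z * d
  norT : ∀ c : M, c * z = z * c → ∀ t ∈ T, c * t * c⁻¹ ∈ T
  com : ∀ a ∈ T, ∀ b ∈ T, a * b = b * a ∨ a * b = b * a * z
  fac : ∀ c : M, c * z = z * c → ∃ t ∈ T, ∃ d ∈ D, c = t * d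
  sup : ∀ g : M, ∃ n ∈ N, ∃ c : M, c * z = z * c ∧ g = n * c
  XN : X ≤ N
  XD : X ≤ D
  DX : ∀ d ∈ D, d ∉ X → ∀ t ∈ T, d * t = t * d → t = 1 ∨ t = z
  sT : s ∈ T
  hs : s * s = 1
  hs1 : s ≠ 1
  hsz : s ≠ z
  cardX : Nat.card X = p

namespace Dat

variable {p : ℕ} {N T D X : Subgroup M} {z s : M} (h : Dat p N T D X z s)

include h

theorem inf_NT {y : M} (hN : y ∈ N) (hT : y ∈ T) : y = 1 := by
  obtain ⟨k, hk⟩ := h.two ⟨y, hT⟩
  have hk' : y ^ 2 ^ k = 1 := congrArg Subtype.val hk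
  have h1 : orderOf y ∣ Nat.card N := by
    have := orderOf_dvd_natCard (⟨y, hN⟩ : N)
    rwa [← Subgroup.orderOf_coe] at this
  have h2 : orderOf y ∣ 2 ^ k := orderOf_dvd_of_pow_eq_one hk'
  have h3 : Nat.Coprime (Nat.card N) (2 ^ k) := (Nat.coprime_two_right.2 h.odd).pow_right k
  exact orderOf_eq_one_iff.1 (Nat.eq_one_of_dvd_coprimes h3 h1 h2)

/-- `[c, t] ∈ N ∩ T = 1` -/
theorem comm_of_mem {c t : M} (hc : c * z = z * c) (ht : t ∈ T) (hN : c * t * c⁻¹ * t⁻¹ ∈ N) : c * t = t * c := by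
  have h1 := h.inf_NT hN (T.mul_mem (h.norT c hc t ht) (T.inv_mem ht))
  rwa [mul_inv_eq_one, mul_inv_eq_iff_eq_mul] at h1

theorem fix {t0 d t : M} (ht0 : t0 ∈ T) (hd : d ∈ D) (ht : t ∈ T) (hc : (t0 * d) * t = t * (t0 * d)) :
    d * t = t * d := by
  have hdz := h.DC d hd
  -- `d t d⁻¹ = t0⁻¹ t t0`
  have h1 : d * t * d⁻¹ = t0⁻¹ * t * t0 := by
    calc d * t * d⁻¹ = t0⁻¹ * ((t0 * d) * t) * d⁻¹ := by group
      _ = t0⁻¹ * (t * (t0 * d)) * d⁻¹ := by rw [hc]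
      _ = _ := by group
  rcases h.com t ht t0 ht0 with h2 | h2
  · have h3 : t0⁻¹ * t * t0 = t := by rw [mul_assoc, h2]; group
    rw [h3] at h1
    exact mul_inv_eq_iff_eq_mul.1 h1
  · exfalso
    have h3 : d * t * d⁻¹ = t * z := by
      rw [h1, mul_assoc, h2]; group
    have h4 : ∀ n : ℕ, d ^ n * t * (d ^ n)⁻¹ = t * z ^ n := by
      intro n
      induction n with
      | zero => simp
      | succ n ih =>
        have h5 : d * z ^ n * d⁻¹ = z ^ n := by
          rw [((show Commute d z from hdz).pow_right n).eq, mul_inv_cancel_right]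
        calc d ^ (n + 1) * t * (d ^ (n + 1))⁻¹ = d * (d ^ n * t * (d ^ n)⁻¹) * d⁻¹ := by rw [pow_succ']; group
          _ = (d * t * d⁻¹) * (d * z ^ n * d⁻¹) := by rw [ih]; group
          _ = t * z ^ (n + 1) := by rw [h3, h5, pow_succ']; group
    have h5 : Odd (orderOf d) := by
      have := orderOf_dvd_natCard (⟨d, hd⟩ : D)
      rw [← Subgroup.orderOf_coe] at this
      exact Odd.of_dvd_nat h.oddD this
    obtain ⟨k, hk⟩ := h5
    have h6 := h4 (orderOf d)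
    rw [pow_orderOf_eq_one, hk, pow_succ, pow_mul, pow_two, h.hz, one_pow, one_mul, one_mul, inv_one, mul_one] at h6
    exact h.hz1 (mul_eq_left.1 h6.symm)

theorem mem_X {d t : M} (hd : d ∈ D) (ht : t ∈ T) (h1 : t ≠ 1) (hz : t ≠ z) (hc : d * t = t * d) : d ∈ X := by
  by_contra hdX
  rcases h.DX d hd hdX t ht hc with h2 | h2
  · exact h1 h2
  · exact hz h2

/-- `C_N(z) = X` -/
theorem inf_eq : N ⊓ centralizer ({z} : Set M) = X := by
  have hn := h.nor
  refine le_antisymm ?_ (le_inf h.XN fun x hx => mem_centralizer_singleton_iff.2 (h.DC x (h.XD hx)))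
  rintro y ⟨hyN, hyz⟩
  have hyz' : y * z = z * y := mem_centralizer_singleton_iff.1 hyz
  obtain ⟨t0, ht0, d, hd, rfl⟩ := h.fac y hyz'
  have h1 : t0 * d * s = s * (t0 * d) := h.comm_of_mem hyz' h.sT (by
    rw [mul_assoc, mul_assoc]
    refine N.mul_mem hyN ?_
    have := hn.conj_mem _ (N.inv_mem hyN) s
    rwa [mul_assoc] at this)
  have h2 := h.mem_X hd h.sT h.hs1 h.hsz (h.fix ht0 hd h.sT h1)
  have h3 : t0 ∈ N := by
    have := N.mul_mem hyN (N.inv_mem (h.XN h2))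
    rwa [mul_inv_cancel_right] at this
  rw [h.inf_NT h3 ht0, one_mul]
  exact h2

/-- elements of odd order of `C(s)` are in `N` -/
theorem mem_N {y : M} (hy : Odd (orderOf y)) (hys : y * s = s * y) : y ∈ N := by
  have hn := h.nor
  obtain ⟨n, hnN, c, hc, hyc⟩ := h.sup y
  obtain ⟨t0, ht0, d, hd, rfl⟩ := h.fac c hc
  have h1 : t0 * d * s = s * (t0 * d) := h.comm_of_mem hc h.sT (by
    have e : t0 * d = n⁻¹ * y := by rw [hyc]; group
    have e2 : t0 * d * s * (t0 * d)⁻¹ * s⁻¹ = n⁻¹ * (s * n * s⁻¹) := by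
      rw [e]
      calc n⁻¹ * y * s * (n⁻¹ * y)⁻¹ * s⁻¹ = n⁻¹ * (y * s) * y⁻¹ * n * s⁻¹ := by group
        _ = n⁻¹ * (s * y) * y⁻¹ * n * s⁻¹ := by rw [hys]
        _ = _ := by group
    rw [e2]
    exact N.mul_mem (N.inv_mem hnN) (hn.conj_mem _ hnN s))
  have h2 := h.mem_X hd h.sT h.hs1 h.hsz (h.fix ht0 hd h.sT h1)
  -- in `M / N`
  have h3 : QuotientGroup.mk' N y = QuotientGroup.mk' N t0 := by
    have e1 : QuotientGroup.mk' N n = 1 := (QuotientGroup.eq_one_iff n).2 hnN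
    have e2 : QuotientGroup.mk' N d = 1 := (QuotientGroup.eq_one_iff d).2 (h.XN h2)
    rw [hyc, map_mul, map_mul, e1, e2, one_mul, mul_one]
  obtain ⟨k, hk⟩ := h.two ⟨t0, ht0⟩
  have hk' : t0 ^ 2 ^ k = 1 := congrArg Subtype.val hk
  have h4 : orderOf (QuotientGroup.mk' N y) ∣ orderOf y := orderOf_map_dvd _ _
  have h5 : orderOf (QuotientGroup.mk' N y) ∣ 2 ^ k := by
    rw [h3]
    exact (orderOf_map_dvd _ _).trans (orderOf_dvd_of_pow_eq_one hk')
  have h6 : Nat.Coprime (orderOf y) (2 ^ k) := (Nat.coprime_two_right.2 hy).pow_right k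
  have h7 := orderOf_eq_one_iff.1 (Nat.eq_one_of_dvd_coprimes h6 h4 h5)
  exact (QuotientGroup.eq_one_iff y).1 h7

/-- the `p`-part of `C(s)` is in `N` -/
theorem dvd_inf [hp : Fact p.Prime] (hp2 : p ≠ 2) {k : ℕ} (hk : p ^ k ∣ Nat.card ↥(centralizer ({s} : Set M))) :
    p ^ k ∣ Nat.card ↥(N ⊓ centralizer ({s} : Set M)) := by
  obtain ⟨P, hP⟩ := Sylow.exists_subgroup_card_pow_prime p hk
  have hPc : Nat.card ↥(P.map (centralizer ({s} : Set M)).subtype) = p ^ k := by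
    rw [card_map_of_injective (Subgroup.subtype_injective _), hP]
  rw [← hPc]
  apply Subgroup.card_dvd_of_le
  refine le_inf ?_ ?_
  · rintro y hy
    refine h.mem_N ?_ ?_
    · have h1 : orderOf (⟨y, hy⟩ : ↥(P.map (centralizer ({s} : Set M)).subtype)) ∣ _ := orderOf_dvd_natCard _
      rw [← Subgroup.orderOf_coe, hPc] at h1
      exact Odd.of_dvd_nat ((hp.out.odd_of_ne_two hp2).pow) h1
    · obtain ⟨w, -, rfl⟩ := hy
      exact mem_centralizer_singleton_iff.1 w.2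
  · rintro y ⟨w, -, rfl⟩
    exact w.2

/-- the hypotheses for `s z` -/
theorem mul_z : Dat p N T D X z (s * z) where
  nor := h.nor
  odd := h.odd
  oddD := h.oddD
  two := h.two
  hz := h.hz
  hz1 := h.hz1
  zT := h.zT
  TC := h.TC
  DC := h.DC
  norT := h.norT
  com := h.com
  fac := h.fac
  sup := h.sup
  XN := h.XN
  XD := h.XD
  DX := h.DX
  sT := T.mul_mem h.sT h.zT
  hs := by
    calc s * z * (s * z) = s * (z * s) * z := by group
      _ = s * (s * z) * z := by rw [h.TC s h.sT]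
      _ = (s * s) * (z * z) := by group
      _ = 1 := by rw [h.hs, h.hz, one_mul]
  hs1 := by
    intro h1
    apply h.hsz
    calc s = s * z * z⁻¹ := by group
      _ = z⁻¹ := by rw [h1, one_mul]
      _ = z := inv_eq_of_mul_eq_one_left h.hz
  hsz := fun h1 => h.hs1 (mul_eq_right.1 h1)
  cardX := h.cardX

/-- **the `p`-part of `|M|`** -/
theorem dvd_card [hp : Fact p.Prime] (hp2 : p ≠ 2) (h1 : p ^ 3 ∣ Nat.card ↥(centralizer ({s} : Set M)))
    (h2 : p ^ 3 ∣ Nat.card ↥(centralizer ({s * z} : Set M))) (h3 : p ^ 2 ∣ Nat.card ↥(centralizer ({z} : Set M))) :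
    p ^ 6 ∣ Nat.card M := by
  have hn := h.nor
  have hp0 := hp.out.pos
  have e1 := h.dvd_inf hp2 h1
  have e2 := h.mul_z.dvd_inf hp2 h2
  have hk := Lib.KleinOrder.card_klein (a := s) (b := z) N h.odd h.hs h.hz (h.TC s h.sT)
    (fun k hk => hn.conj_mem k hk s) (fun k hk => hn.conj_mem k hk z)
  rw [h.inf_eq, h.cardX] at hk
  have e3 : Nat.card ↥(N ⊓ centralizer ({s} : Set M) ⊓ centralizer ({z} : Set M)) ∣ p := by
    rw [← h.cardX, ← h.inf_eq]
    exact Subgroup.card_dvd_of_le (le_inf (inf_le_left.trans inf_le_left) inf_le_right)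
  -- `p ^ 5 ∣ |N|`
  have e4 : p ^ 5 ∣ Nat.card N := by
    obtain ⟨u, hu⟩ := e3
    obtain ⟨v, hv⟩ := e1
    obtain ⟨w, hw⟩ := e2
    refine Nat.dvd_of_mul_dvd_mul_left (Nat.pow_pos (n := 2) hp0) (k := p ^ 2) ?_
    refine ⟨u ^ 2 * v * w, ?_⟩
    have h5 : p ^ 2 = Nat.card ↥(N ⊓ centralizer ({s} : Set M) ⊓ centralizer ({z} : Set M)) ^ 2 * u ^ 2 := by
      rw [← mul_pow, ← hu]
    calc p ^ 2 * Nat.card N = (Nat.card N *
          Nat.card ↥(N ⊓ centralizer ({s} : Set M) ⊓ centralizer ({z} : Set M)) ^ 2) * u ^ 2 := by rw [h5]; ring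
      _ = p ^ 2 * p ^ 5 * (u ^ 2 * v * w) := by rw [hk, hv, hw]; ring
  -- `p ∣ |M : N|`
  have e5 : p ∣ N.index := by
    have h5 : N ⊔ centralizer ({z} : Set M) = ⊤ := by
      rw [eq_top_iff]
      rintro g -
      obtain ⟨n, hn', c, hc, rfl⟩ := h.sup g
      exact mul_mem_sup hn' (mem_centralizer_singleton_iff.2 hc)
    have h6 : N.relIndex (centralizer ({z} : Set M)) = N.index := by
      rw [← relIndex_sup_left, h5, relIndex_top_right]
    have h7 := relIndex_mul_relIndex ⊥ (N ⊓ centralizer ({z} : Set M)) (centralizer ({z} : Set M)) bot_le inf_le_right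
    rw [relIndex_bot_left, relIndex_bot_left, inf_relIndex_right, h6, h.inf_eq, h.cardX] at h7
    rw [← h7, pow_two] at h3
    exact Nat.dvd_of_mul_dvd_mul_left hp0 h3
  rw [← N.card_mul_index, pow_succ]
  exact Nat.mul_dvd_mul e4 e5

end Dat

end Cfsg.Agent.H569.KleinIndex
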