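import Cfsg.Agent.H569.HNFive
import Cfsg.Agent.Transfer.FusionBasic

/-!
# The centralizer of an element of class 5B of `HN` (helper569)
-/

set_option autoImplicit false

namespace Cfsg.Agent.H569.HNFive

open Cfsg.Agent.HN.Pres Cfsg.Agent.HN.H0Basic
open Cfsg.Agent.HN.P1408 hiding ψ
open Cfsg.Agent.HN.XWords (W0 W0_sq)
open Cfsg.Agent.HN.NormalH (ψ)
open Cfsg Cfsg.Agent
open Cfsg.Agent.KFacts.HN
open Cfsg.Agent.CpAutTh.RankOne (UInv)
open Cfsg.Agent.CpAutHN.PPFacts (isPGroup_ker)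
open Cfsg.Agent.CpAutHN.LqFacts (e1_A)
open Cfsg.Agent.CpAutHNFive Cfsg.Agent.CpAutHNFive.LFive Cfsg.Agent.CpAutHNFive.PFive
open Cfsg.Agent.CpAutHNFive.TFive Cfsg.Agent.CpAutHNFive.HFacts
open Cfsg.Agent.CpAutHNFive.HTab hiding c5
open Cfsg.Agent.CpAutHNFive.TauFive
open Subgroup

/-! ### type II : `W0` is isolated -/

theorem center_T {x : PP} (h5 : x ^ 5 = 1) {c : G} (hc : c ∈ RS ⊓ centralizer ({(x : G)} : Set G))
    (hcT : ∀ t ∈ RS ⊓ centralizer ({(x : G)} : Set G), c * t = t * c) : c = 1 ∨ c = W0 := by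
  have hxc : ∀ c : G, c ∈ RS → c * W0 = W0 * c := fun c hc => mem_PP.1 (RS_le_PP hc)
  have hxW : (x : G) * W0 = W0 * x := mem_PP.1 x.2
  refine large.cent c hc.1 fun y hy => ?_
  refine comm_of_norm (R := RS) (z := W0) (x := (x : G)) order_W0 hxc hxW (congrArg Subtype.val h5)
    (fun r hr => conj_RS x.2 hr) large.comm hc.1 (mem_centralizer_singleton_iff.1 hc.2) ?_ hy
  intro d hd hdx
  exact hcT d ⟨hd, mem_centralizer_singleton_iff.2 hdx⟩

theorem iso_two {x : PP} (h5 : x ^ 5 = 1) (h : ρ x = φA c5 * φB (c5 ^ 3)) :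
    ∀ g : ↥(centralizer ({(x : G)} : Set G)), g * sx x * g⁻¹ * sx x = sx x * (g * sx x * g⁻¹) →
      g * sx x * g⁻¹ = sx x := by
  refine iso_of_extra (order_sx x) (RS.subgroupOf (centralizer ({(x : G)} : Set G))) ?_ ?_ ?_ ?_
  · intro u k hk hu
    obtain ⟨v, hvu, hvx⟩ := comm_elt hu
    have h1 : v ^ 2 ^ k = 1 := by
      apply Subtype.ext
      change (v : G) ^ 2 ^ k = 1
      rw [hvu]
      exact congrArg Subtype.val hk
    have h2 := ρ_two h hvx h1
    rw [mem_subgroupOf, ← hvu]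
    exact ⟨v, h2, rfl⟩
  · intro u
    obtain ⟨k, hk⟩ := RS_isPGroup ⟨((u : ↥(centralizer ({(x : G)} : Set G))) : G), mem_subgroupOf.1 u.2⟩
    refine ⟨k, Subtype.ext (Subtype.ext ?_)⟩
    have h0 := congrArg Subtype.val hk
    exact h0
  · intro a ha b hb
    rcases large.comm a (mem_subgroupOf.1 ha) b (mem_subgroupOf.1 hb) with h1 | h1
    · exact Or.inl (Subtype.ext h1)
    · exact Or.inr (Subtype.ext h1)
  · intro s hs hs2 hsz
    have hxc : ∀ c : G, c ∈ RS → c * W0 = W0 * c := fun c hc => mem_PP.1 (RS_le_PP hc)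
    have hz2 : W0 * W0 = 1 := W0_sq
    obtain ⟨a, ha, b, hb, h1, h2, h3⟩ := CpAutHNFive.exists_not_comm (G := G)
      (T := RS ⊓ centralizer ({(x : G)} : Set G)) (z := W0) (s := (s : G)) hz2 (fun t ht => hxc t ht.1)
      (fun a ha b hb => large.comm a ha.1 b hb.1) (fun c hc hcT => center_T h5 hc hcT) (card_two h5 h)
      ⟨mem_subgroupOf.1 hs, s.2⟩ (sq_of_order hs2).2 (fun h => hsz (Subtype.ext h))
    refine ⟨⟨a, ha.2⟩, mem_subgroupOf.2 ha.1, ⟨b, hb.2⟩, mem_subgroupOf.2 hb.1, Subtype.ext h1, Subtype.ext h2, ?_⟩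
    intro h4
    exact h3 (congrArg Subtype.val h4)

/-! ### the group of order 25 -/

/-- the group generated by `a` and `b` -/
noncomputable def DD (a b : PP) : Subgroup G := zpowers (a : G) ⊔ zpowers (b : G)

namespace Pair

variable {a b : PP} (h : Pair a b)

include h

theorem abG : (a : G) * b = b * a := congrArg Subtype.val h.ab

theorem aG5 : (a : G) ^ 5 = 1 := congrArg Subtype.val h.a5

theorem bG5 : (b : G) ^ 5 = 1 := congrArg Subtype.val h.b5

theorem mem_DD {d : G} : d ∈ DD a b ↔ ∃ i j : ℤ, d = (a : G) ^ i * (b : G) ^ j := by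
  constructor
  · intro hd
    have h1 : zpowers (a : G) ≤ normalizer ((zpowers (b : G) : Subgroup G) : Set G) := by
      rw [zpowers_le]
      apply Transfer.FusionBasic.mem_normalizer_of_conj_mem
      intro y hy
      obtain ⟨k, rfl⟩ := mem_zpowers_iff.1 hy
      rw [((show Commute (a : G) b from h.abG).zpow_right k).eq, mul_inv_cancel_right]
      exact zpow_mem (mem_zpowers (b : G)) k
    have h2 : d ∈ ((DD a b : Subgroup G) : Set G) := hd
    rw [DD, Subgroup.coe_mul_of_left_le_normalizer_right _ _ h1] at h2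
    obtain ⟨a', ha, b', hb, e⟩ := h2
    obtain ⟨i, rfl⟩ := mem_zpowers_iff.1 ha
    obtain ⟨j, rfl⟩ := mem_zpowers_iff.1 hb
    exact ⟨i, j, e.symm⟩
  · rintro ⟨i, j, rfl⟩
    exact mul_mem (mem_sup_left (zpow_mem (mem_zpowers _) i)) (mem_sup_right (zpow_mem (mem_zpowers _) j))

theorem isPGroup_DD : IsPGroup 5 ↥(DD a b) := by
  refine H749.isPGroup_sup_zpowers ⟨1, by rw [pow_one]; exact h.aG5⟩
    (H749.isPGroup_zpowers ⟨1, by rw [pow_one]; exact h.bG5⟩) ?_ ?_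
  · intro y hy
    obtain ⟨k, rfl⟩ := mem_zpowers_iff.1 hy
    rw [((show Commute (a : G) b from h.abG).zpow_right k).eq, mul_inv_cancel_right]
    exact zpow_mem (mem_zpowers (b : G)) k
  · intro y hy
    obtain ⟨k, rfl⟩ := mem_zpowers_iff.1 hy
    have h1 : (a : G)⁻¹ * (b : G) ^ k = (b : G) ^ k * (a : G)⁻¹ :=
      ((show Commute (a : G) b from h.abG).inv_left.zpow_right k).eq
    rw [h1, inv_mul_cancel_right]
    exact zpow_mem (mem_zpowers (b : G)) k

theorem exp_DD {d : G} (hd : d ∈ DD a b) : d ^ 5 = 1 := by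
  obtain ⟨i, j, rfl⟩ := h.mem_DD.1 hd
  have h1 : Commute ((a : G) ^ i) ((b : G) ^ j) := ((show Commute (a : G) b from h.abG).zpow_right j).zpow_left i
  rw [h1.mul_pow, ← zpow_natCast, ← zpow_natCast, ← zpow_mul, ← zpow_mul, mul_comm i, mul_comm j, zpow_mul, zpow_mul,
    zpow_natCast, zpow_natCast, h.aG5, h.bG5, one_zpow, one_zpow, one_mul]

theorem comm_DD {d d' : G} (hd : d ∈ DD a b) (hd' : d' ∈ DD a b) : d * d' = d' * d := by
  obtain ⟨i, j, rfl⟩ := h.mem_DD.1 hd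
  obtain ⟨i', j', rfl⟩ := h.mem_DD.1 hd'
  have hab : Commute (a : G) b := h.abG
  have e1 : Commute ((a : G) ^ i * (b : G) ^ j) ((a : G) ^ i') :=
    (((Commute.refl (a : G)).zpow_right i').zpow_left i).mul_left ((hab.symm.zpow_right i').zpow_left j)
  have e2 : Commute ((a : G) ^ i * (b : G) ^ j) ((b : G) ^ j') :=
    ((hab.zpow_right j').zpow_left i).mul_left (((Commute.refl (b : G)).zpow_right j').zpow_left j)
  exact (e1.mul_right e2).eq

theorem a_mem : (a : G) ∈ DD a b := mem_sup_left (mem_zpowers _)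

theorem b_mem : (b : G) ∈ DD a b := mem_sup_right (mem_zpowers _)

theorem dvd_DD : 25 ∣ Nat.card ↥(DD a b) := by
  have hne : (a : G) ∉ zpowers (b : G) := by
    intro h1
    obtain ⟨k, hk⟩ := mem_zpowers_iff.1 h1
    have h2 : b ^ k = a := Subtype.ext hk
    have h3 := h.ρa
    rw [← h2, map_zpow, h.ρb, ← map_zpow] at h3
    have h4 : φA c5 * φB 1 = φA 1 * φB (c5 ^ k) := by rw [map_one, map_one, mul_one, one_mul, h3]
    exact c5_ne (φ2_inj h4).1
  have h1 := mul_order_dvd (C := ↥(DD a b)) (a := ⟨(a : G), h.a_mem⟩) (b := ⟨(b : G), h.b_mem⟩) (Subtype.ext h.abG)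
    (inf_eq_bot_of_prime Nat.prime_five (by
      rw [← Subgroup.orderOf_coe]
      change orderOf (a : G) = 5
      rw [Subgroup.orderOf_coe]
      exact h.ao) (by
      intro h2
      apply hne
      obtain ⟨k, hk⟩ := mem_zpowers_iff.1 h2
      exact mem_zpowers_iff.2 ⟨k, congrArg Subtype.val hk⟩))
  rw [← Subgroup.orderOf_coe, ← Subgroup.orderOf_coe] at h1
  change orderOf (a : G) * orderOf (b : G) ∣ _ at h1
  rw [Subgroup.orderOf_coe, Subgroup.orderOf_coe, h.ao, h.bo] at h1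
  exact h1

/-- the element of class 5B -/
theorem ρx : ρ (a * b ^ 3) = φA c5 * φB (c5 ^ 3) := by rw [map_mul, map_pow, h.ρa, h.ρb, map_pow]

theorem x5 : (a * b ^ 3) ^ 5 = 1 := by
  rw [((show Commute a b from h.ab).pow_right 3).mul_pow, h.a5, one_mul, ← pow_mul, mul_comm, pow_mul, h.b5, one_pow]

theorem x_ne : a * b ^ 3 ≠ 1 := by
  intro h1
  have h2 := h.ρx
  rw [h1, map_one] at h2
  have h3 : φA 1 * φB 1 = φA c5 * φB (c5 ^ 3) := by rw [← h2, map_one, map_one, one_mul]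
  exact c5_ne (φ2_inj h3).1.symm

theorem xo : orderOf (a * b ^ 3) = 5 := by
  have : Fact (Nat.Prime 5) := ⟨Nat.prime_five⟩
  exact orderOf_eq_prime h.x5 h.x_ne

theorem x_mem : ((a * b ^ 3 : PP) : G) ∈ DD a b := mul_mem h.a_mem (pow_mem h.b_mem 3)

theorem DD_le : DD a b ≤ centralizer ({((a * b ^ 3 : PP) : G)} : Set G) := fun _ hd =>
  mem_centralizer_singleton_iff.2 (h.comm_DD hd h.x_mem)

omit h in
theorem DD_le_PP : DD a b ≤ PP := by
  refine sup_le ?_ ?_
  · rw [zpowers_le]; exact a.2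
  · rw [zpowers_le]; exact b.2

/-- `C_R(D) = ⟨W0⟩` -/
theorem fix_DD {d t : G} (hd : d ∈ DD a b) (hdx : d ∉ zpowers ((a * b ^ 3 : PP) : G)) (ht : t ∈ RS)
    (htx : t * ((a * b ^ 3 : PP) : G) = ((a * b ^ 3 : PP) : G) * t) (htd : d * t = t * d) : t = 1 ∨ t = W0 := by
  obtain ⟨i, j, rfl⟩ := h.mem_DD.1 hd
  have hab : Commute (a : G) b := h.abG
  -- `b ^ (j - 3 i)`
  have hx : ((a * b ^ 3 : PP) : G) = (a : G) * (b : G) ^ 3 := rfl
  have hxi : ((a * b ^ 3 : PP) : G) ^ i = (a : G) ^ i * (b : G) ^ (3 * i) := by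
    rw [hx, (hab.pow_right 3).mul_zpow, zpow_mul]
    norm_cast
  have hbm : (b : G) ^ (j - 3 * i) = (((a * b ^ 3 : PP) : G) ^ i)⁻¹ * ((a : G) ^ i * (b : G) ^ j) := by
    rw [hxi, mul_inv_rev, sub_eq_add_neg, zpow_add]
    have e1 : ((b : G) ^ (3 * i))⁻¹ * ((a : G) ^ i)⁻¹ * ((a : G) ^ i * (b : G) ^ j) =
        ((b : G) ^ (3 * i))⁻¹ * (b : G) ^ j := by group
    rw [e1, ← zpow_neg, ← zpow_add, ← zpow_add, add_comm j]
  have hct : Commute t ((b : G) ^ (j - 3 * i)) := by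
    rw [hbm]
    exact ((show Commute t ((a * b ^ 3 : PP) : G) from htx).zpow_right i).inv_right.mul_right htd.symm
  have h5 : ¬ (5 : ℤ) ∣ j - 3 * i := by
    rintro ⟨k, hk⟩
    apply hdx
    rw [mem_zpowers_iff]
    refine ⟨i, ?_⟩
    rw [hk, zpow_mul] at hbm
    have e1 : (b : G) ^ (5 : ℤ) = 1 := by
      have := h.bG5
      exact_mod_cast this
    rw [e1, one_zpow] at hbm
    calc ((a * b ^ 3 : PP) : G) ^ i = ((a * b ^ 3 : PP) : G) ^ i * ((((a * b ^ 3 : PP) : G) ^ i)⁻¹ *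
        ((a : G) ^ i * (b : G) ^ j)) := by rw [← hbm, mul_one]
      _ = _ := by group
  -- `t` commutes with `b`
  have htb : t * b = b * t := by
    have h6 : IsCoprime (5 : ℤ) (j - 3 * i) := by
      rw [Int.isCoprime_iff_gcd_eq_one]
      have h7 : Nat.Coprime 5 (j - 3 * i).natAbs := by
        rw [Nat.Prime.coprime_iff_not_dvd Nat.prime_five]
        intro h8
        exact h5 (Int.natCast_dvd.2 h8)
      exact h7
    obtain ⟨u, v, huv⟩ := h6
    have h7 : (b : G) = ((b : G) ^ (j - 3 * i)) ^ v := by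
      rw [← zpow_mul, mul_comm]
      have h8 : v * (j - 3 * i) = 1 - 5 * u := by linarith
      have e1 : (b : G) ^ (5 : ℤ) = 1 := by
        have := h.bG5
        exact_mod_cast this
      rw [h8, zpow_sub, zpow_mul, e1, one_zpow, zpow_one, inv_one, mul_one]
    rw [h7]
    exact (hct.zpow_right v).eq
  obtain ⟨v, hv, rfl⟩ := ht
  exact h.fix_b (v := v) hv (Subtype.ext htb)

/-- factorisation of the elements of `C(x) ∩ C(W0)` -/
theorem factor {c : PP} (hc : c * (a * b ^ 3) = a * b ^ 3 * c) : ∃ t ∈ RS, ∃ d ∈ DD a b, (c : G) = t * d := by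
  have h1 : ρ c * (φA c5 * φB (c5 ^ 3)) = φA c5 * φB (c5 ^ 3) * ρ c := by rw [← h.ρx, ← map_mul, hc, map_mul]
  obtain ⟨i, j, hij⟩ := exists_pow (mem_LL_of_comm h1) (Or.inr rfl) h1
  have h2 : ρ (a ^ i * b ^ j) = ρ c := by rw [map_mul, map_pow, map_pow, h.ρa, h.ρb, hij, map_pow, map_pow]
  refine ⟨((c * (a ^ i * b ^ j)⁻¹ : PP) : G), ⟨c * (a ^ i * b ^ j)⁻¹, ?_, rfl⟩, ((a ^ i * b ^ j : PP) : G), ?_, ?_⟩
  · change ρ _ = 1
    rw [map_mul, map_inv, h2, mul_inv_cancel]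
  · exact mul_mem (pow_mem h.a_mem i) (pow_mem h.b_mem j)
  · rw [← Subgroup.coe_mul, inv_mul_cancel_right]

end Pair

/-! ### the involution `s` -/

open Cfsg.Agent.BpSpor.HNFiveA (w1_PP hW not_uInv eight_dvd dvd_w1)

/-- `ψ w1` is of type II -/
theorem exists_conj_w1 : ∃ (g : PP) (m : ℕ), 1 ≤ m ∧ m < 5 ∧
    ρ (g * (⟨ψ (hw w1), w1_PP⟩ : PP) ^ m * g⁻¹) = φA c5 * φB (c5 ^ 3) := by
  let x : PP := ⟨ψ (hw w1), w1_PP⟩
  have hox : orderOf (ψ (hw w1)) = 5 := by rw [orderOf_injective _ emb.inj, order_w1]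
  have hx : orderOf x = 5 := by rw [← Subgroup.orderOf_coe]; exact hox
  obtain ⟨g, m, hm1, hm5, h⟩ := conj_std hx
  refine ⟨g, m, hm1, hm5, ?_⟩
  let y : PP := g * x ^ m * g⁻¹
  have hy : (g : G) * ψ (hw w1) ^ m * (g : G)⁻¹ = (y : G) := rfl
  obtain ⟨e⟩ := cequiv_pow hox hm1 hm5 hy
  rcases h with h | h | h
  · exfalso
    have h1 := (CpAutTh.RankOne.uInv_of_unique (order_sx y) (unique_one h)).1
    apply not_uInv
    intro a b ha hb hab
    apply e.injective
    apply h1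
    · rw [MulEquiv.orderOf_eq, ha]
    · rw [MulEquiv.orderOf_eq, hb]
    · rw [← map_mul, hab, map_mul]
  · exfalso
    have h2 := card_three (x := y) h
    rw [card_pair] at h2
    have h3 : (centralizer ({ψ (hw w1)} : Set G) ⊓ centralizer ({W0} : Set G)).map (MulAut.conj (g : G)).toMonoidHom =
        centralizer ({(y : G)} : Set G) ⊓ centralizer ({W0} : Set G) := by
      have hgW : (g : G) * W0 * (g : G)⁻¹ = W0 := by rw [mem_PP.1 g.2, mul_inv_cancel_right]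
      rw [Subgroup.map_inf _ _ _ (MulAut.conj (g : G)).injective, ← centralizer_pow hox hm1 hm5, map_centralizer,
        map_centralizer, hgW, hy]
    rw [← h3] at h2
    rw [← Nat.card_congr ((centralizer ({ψ (hw w1)} : Set G) ⊓ centralizer ({W0} : Set G)).equivMapOfInjective
      (MulAut.conj (g : G)).toMonoidHom (MulAut.conj (g : G)).injective).toEquiv] at h2
    have h10 := eight_dvd.trans h2
    norm_num at h10
  · exact h

theorem dvd_pair_w1 : 5 ^ 3 ∣ Nat.card ↥(centralizer ({ψ (hw w1)} : Set G) ⊓ centralizer ({ψ τ} : Set G)) := by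
  have h1 : (centralizer ({hw w1} : Set H0)).map ψ ≤ centralizer ({ψ (hw w1)} : Set G) ⊓ centralizer ({ψ τ} : Set G) := by
    rintro _ ⟨v, hv, rfl⟩
    refine ⟨mem_centralizer_singleton_iff.2 ?_, mem_centralizer_singleton_iff.2 ?_⟩
    · rw [← map_mul, ← map_mul, mem_centralizer_singleton_iff.1 hv]
    · rw [← map_mul, ← map_mul, τ_comm]
  have h2 := card_dvd_of_le h1
  rw [card_map_of_injective emb.inj] at h2
  exact dvd_w1.trans h2

theorem τW_comm : ψ τ * W0 = W0 * ψ τ := by rw [hW, ← map_mul, ← map_mul, ← τ_comm (Cfsg.Agent.HN.Syl.a * τ)]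

theorem τW_ne : ψ τ ≠ W0 := by
  intro h
  rw [hW] at h
  exact Cfsg.Agent.HN.Classes.aτ_ne_τ (emb.inj h).symm

/-- conjugation preserves the order of an intersection of centralizers -/
theorem card_inf_conj (u x s : G) : Nat.card ↥(centralizer ({u * x * u⁻¹} : Set G) ⊓ centralizer ({u * s * u⁻¹} : Set G)) =
    Nat.card ↥(centralizer ({x} : Set G) ⊓ centralizer ({s} : Set G)) := by
  rw [← map_centralizer, ← map_centralizer, ← Subgroup.map_inf _ _ _ (MulAut.conj u).injective]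
  exact (Nat.card_congr ((centralizer ({x} : Set G) ⊓ centralizer ({s} : Set G)).equivMapOfInjective
      (MulAut.conj u).toMonoidHom (MulAut.conj u).injective).toEquiv).symm

namespace Pair

variable {a b : PP} (h : Pair a b)

include h

/-- **the involution `s`** -/
theorem exists_s : ∃ u : PP, (u : G) * ψ τ * (u : G)⁻¹ * ((a * b ^ 3 : PP) : G) =
      ((a * b ^ 3 : PP) : G) * ((u : G) * ψ τ * (u : G)⁻¹) ∧
    5 ^ 3 ∣ Nat.card ↥(centralizer ({((a * b ^ 3 : PP) : G)} : Set G) ⊓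
      centralizer ({(u : G) * ψ τ * (u : G)⁻¹} : Set G)) := by
  obtain ⟨g, m, hm1, hm5, hg⟩ := exists_conj_w1
  have hox : orderOf (ψ (hw w1)) = 5 := by rw [orderOf_injective _ emb.inj, order_w1]
  have hy5 : orderOf (g * (⟨ψ (hw w1), w1_PP⟩ : PP) ^ m * g⁻¹) = 5 := by
    have h1 : orderOf ((⟨ψ (hw w1), w1_PP⟩ : PP) ^ m) = 5 := by
      rw [orderOf_pow, ← Subgroup.orderOf_coe]
      change orderOf (ψ (hw w1)) / _ = 5
      rw [hox]
      interval_cases m <;> rfl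
    rw [← h1]
    exact MulEquiv.orderOf_eq (MulAut.conj g) _
  obtain ⟨q, -, hq⟩ := CpAutTh.RankOne.conj_of_quot Nat.prime_two Nat.prime_five (by norm_num) ρ isPGroup_ker hy5 h.xo
    (hg.trans h.ρx.symm)
  have hx : ((q * g : PP) : G) * ψ (hw w1) ^ m * ((q * g : PP) : G)⁻¹ = ((a * b ^ 3 : PP) : G) := by
    have h1 : (q : G) * ((g : G) * ψ (hw w1) ^ m * (g : G)⁻¹) * (q : G)⁻¹ = ((a * b ^ 3 : PP) : G) :=
      congrArg Subtype.val hq
    rw [← h1, Subgroup.coe_mul]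
    group
  refine ⟨q * g, ?_, ?_⟩
  · have h2 : ψ τ * ψ (hw w1) ^ m = ψ (hw w1) ^ m * ψ τ := by rw [← map_pow, ← map_mul, ← map_mul, τ_comm]
    rw [← hx]
    generalize ((q * g : PP) : G) = u
    calc u * ψ τ * u⁻¹ * (u * ψ (hw w1) ^ m * u⁻¹) = u * (ψ τ * ψ (hw w1) ^ m) * u⁻¹ := by group
      _ = u * (ψ (hw w1) ^ m * ψ τ) * u⁻¹ := by rw [h2]
      _ = _ := by group
  · rw [← hx, card_inf_conj, centralizer_pow hox hm1 hm5]
    exact dvd_pair_w1

end Pair

end Cfsg.Agent.H569.HNFive
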